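import Groth.Agent.Lib.GeomIrrAlg.Basic
import Mathlib.FieldTheory.SeparableClosure
import Mathlib.FieldTheory.IsAlgClosed.AlgebraicClosure
import Mathlib.FieldTheory.PrimitiveElement
import Mathlib.RingTheory.AdjoinRoot

/-!
# Geometrically irreducible field extensions
-/

universe u

open TensorProduct Polynomial

namespace GrothLib.GeomIrrAlg

variable {k K : Type u} [Field k] [Field K] [Algebra k K]

/-- An irreducible separable polynomial stays irreducible when `k` is separably closed in `K`. -/
theorem irreducible_map (h : ∀ α : K, IsSeparable k α → α ∈ Set.range (algebraMap k K)) (m : k[X])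
    (hm : m.Monic) (hirr : Irreducible m) (hsep : m.Separable) : Irreducible (m.map (algebraMap k K)) := by
  let q := m.map (algebraMap k K)
  have hq : ¬IsUnit q := fun hu => by
    have := natDegree_eq_zero_of_isUnit hu
    rw [hm.natDegree_map] at this
    exact hirr.natDegree_pos.ne' this
  obtain ⟨g, hg, hgdvd⟩ := WfDvdMonoid.exists_irreducible_factor hq (hm.map _).ne_zero
  let g' := g * C g.leadingCoeff⁻¹
  have hg'm : g'.Monic := monic_mul_leadingCoeff_inv hg.ne_zero
  have hassoc : Associated g g' := by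
    refine associated_mul_unit_right g _ (isUnit_C.2 (isUnit_iff_ne_zero.2 ?_))
    exact inv_ne_zero (leadingCoeff_ne_zero.2 hg.ne_zero)
  have hg'irr : Irreducible g' := hassoc.irreducible hg
  have hg'dvd : g' ∣ q := hassoc.dvd_iff_dvd_left.1 hgdvd
  let Ω := AlgebraicClosure K
  let S := separableClosure k Ω
  let G := g'.map (algebraMap K Ω)
  have hGm : G.Monic := hg'm.map _
  have hGdvd : G ∣ m.map (algebraMap k Ω) := by
    rw [IsScalarTower.algebraMap_eq k K Ω, ← Polynomial.map_map]
    exact Polynomial.map_dvd _ hg'dvd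
  have hroots : ∀ r ∈ G.roots, r ∈ S := fun r hr => by
    have hr' : aeval r m = 0 := by
      rw [← eval_map_algebraMap]
      exact (IsRoot.dvd ((mem_roots hGm.ne_zero).1 hr) hGdvd).eq_zero
    rw [mem_separableClosure_iff, IsSeparable, ← minpoly.eq_of_irreducible_of_monic hirr hr' hm]
    exact hsep
  have hlift : G ∈ Polynomial.lifts (algebraMap S Ω) := by
    rw [(IsAlgClosed.splits G).eq_prod_roots_of_monic hGm]
    refine multiset_prod_mem _ fun p hp => ?_
    obtain ⟨r, hr, rfl⟩ := Multiset.mem_map.1 hp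
    rw [sub_eq_add_neg, ← map_neg]
    exact add_mem (X_mem_lifts _) (C_mem_lifts (algebraMap S Ω) ⟨-r, neg_mem (hroots r hr)⟩)
  rw [lifts_iff_coeff_lifts] at hlift
  have hco : ∀ n, g'.coeff n ∈ Set.range (algebraMap k K) := fun n => by
    refine h _ ?_
    obtain ⟨s, hs⟩ := hlift n
    rw [coeff_map] at hs
    have hsepn : IsSeparable k (algebraMap K Ω (g'.coeff n)) := by
      rw [← hs]
      exact mem_separableClosure_iff.1 s.2
    rwa [IsSeparable, minpoly.algebraMap_eq (algebraMap K Ω).injective] at hsepn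
  obtain ⟨g₀, hg₀⟩ := (lifts_iff_coeff_lifts (f := algebraMap k K) g').2 hco
  change g₀.map (algebraMap k K) = g' at hg₀
  have hg₀m : g₀.Monic := monic_of_injective (algebraMap k K).injective (hg₀ ▸ hg'm)
  have hdvd : g₀ ∣ m := by
    rwa [← hg₀, Polynomial.map_dvd_map _ (algebraMap k K).injective hg₀m] at hg'dvd
  rcases hirr.dvd_iff.1 hdvd with hu | ha
  · exact absurd (hg₀ ▸ hu.map (Polynomial.mapRingHom (algebraMap k K))) hg'irr.not_isUnit
  · rw [eq_of_monic_of_associated hg₀m hm ha.symm] at hg₀
    rw [hg₀]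
    exact hg'irr

/-- A finite separable base change of a field in which the base is separably closed is a field. -/
theorem isField_finite_separable (h : ∀ α : K, IsSeparable k α → α ∈ Set.range (algebraMap k K))
    (E : Type u) [Field E] [Algebra k E] [Module.Finite k E] [Algebra.IsSeparable k E] :
    IsField (E ⊗[k] K) := by
  let pb := Field.powerBasisOfFiniteOfSeparable k E
  let m := minpoly k pb.gen
  have hint : IsIntegral k pb.gen := Algebra.IsIntegral.isIntegral _
  let q := m.map (algebraMap k K)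
  have hq : Irreducible q := irreducible_map h m (minpoly.monic hint) (minpoly.irreducible hint)
    (Algebra.IsSeparable.isSeparable k pb.gen)
  have := Fact.mk hq
  let γ : K ⊗[k] E := 1 ⊗ₜ pb.gen
  have hγ : aeval γ q = 0 := by
    rw [aeval_map_algebraMap]
    change aeval ((Algebra.TensorProduct.includeRight : E →ₐ[k] K ⊗[k] E) pb.gen) m = 0
    rw [aeval_algHom_apply, minpoly.aeval, map_zero]
  let φ : AdjoinRoot q →ₐ[K] K ⊗[k] E := AdjoinRoot.liftAlgHom q (Algebra.ofId K (K ⊗[k] E)) γ hγ
  have hφ : Function.Surjective φ := by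
    let S := (φ.range.restrictScalars k).comap (Algebra.TensorProduct.includeRight : E →ₐ[k] K ⊗[k] E)
    have hS : S = ⊤ := top_le_iff.1 (pb.adjoin_gen_eq_top ▸ Algebra.adjoin_le
      (Set.singleton_subset_iff.2 ⟨AdjoinRoot.root q, AdjoinRoot.liftAlgHom_root _ _ _ _⟩))
    intro z
    induction z with
    | zero => exact ⟨0, map_zero φ⟩
    | tmul x y =>
      obtain ⟨w, hw⟩ : y ∈ S := hS ▸ Algebra.mem_top
      refine ⟨x • w, ?_⟩
      rw [map_smul]
      exact (congrArg (x • ·) hw).trans (by simp [TensorProduct.smul_tmul'])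
    | add a b ha hb =>
      obtain ⟨u, rfl⟩ := ha
      obtain ⟨v, rfl⟩ := hb
      exact ⟨u + v, map_add φ u v⟩
  have hφi : Function.Injective φ := φ.toRingHom.injective
  let e : AdjoinRoot q ≃+* E ⊗[k] K :=
    (RingEquiv.ofBijective φ.toRingHom ⟨hφi, hφ⟩).trans (Algebra.TensorProduct.comm k K E).toRingEquiv
  exact MulEquiv.isField (Field.toIsField (AdjoinRoot q)) e.symm.toMulEquiv

/-- A finite separable base change of a field in which the base is separably closed is irreducible. -/
theorem irreducibleSpace_finite_separable (h : ∀ α : K, IsSeparable k α → α ∈ Set.range (algebraMap k K))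
    (E : Type u) [Field E] [Algebra k E] [Module.Finite k E] [Algebra.IsSeparable k E] :
    IrreducibleSpace (PrimeSpectrum (E ⊗[k] K)) := by
  let _ := (isField_finite_separable h E).toField
  infer_instance

open TensorProduct in
/-- Separable elements of a geometrically irreducible field extension lie in the base. -/
theorem mem_range_of_irreducible
    (h : ∀ (k' : Type u) [Field k'] [Algebra k k'], IrreducibleSpace (PrimeSpectrum (k' ⊗[k] K)))
    (α : K) (hα : IsSeparable k α) : α ∈ Set.range (algebraMap k K) := by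
  have hint : IsIntegral k α := hα.isIntegral
  by_contra hne
  let E := IntermediateField.adjoin k {α}
  have : FiniteDimensional k E := IntermediateField.adjoin.finiteDimensional hint
  let Ω := AlgebraicClosure K
  let m := minpoly k α
  have hdeg : 2 ≤ m.natDegree := minpoly.two_le_natDegree_iff hint |>.2 hne
  obtain ⟨β, hβ, hβne⟩ : ∃ β : Ω, β ∈ m.rootSet Ω ∧ β ≠ algebraMap K Ω α := by
    have hcard : Fintype.card (m.rootSet Ω) = m.natDegree :=
      card_rootSet_eq_natDegree hα (IsAlgClosed.splits _)
    by_contra! hc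
    have : Fintype.card (m.rootSet Ω) ≤ 1 := Fintype.card_le_one_iff.2 fun a b =>
      Subtype.ext ((hc a a.2).trans (hc b b.2).symm)
    omega
  let e : E := IntermediateField.AdjoinSimple.gen k α
  let φ₁ : E →ₐ[k] Ω := (IsScalarTower.toAlgHom k K Ω).comp E.val
  let φ₂ : E →ₐ[k] Ω := (IntermediateField.algHomAdjoinIntegralEquiv k hint).symm
    ⟨β, by
      rw [mem_aroots]
      exact ⟨(minpoly.ne_zero hint), (mem_rootSet.1 hβ).2⟩⟩
  have : IrreducibleSpace (PrimeSpectrum (E ⊗[k] K)) := h E
  let τ := Algebra.TensorProduct.comm k K E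
  have hK : IrreducibleSpace (PrimeSpectrum (K ⊗[k] E)) :=
    (PrimeSpectrum.homeomorphOfRingEquiv τ.toRingEquiv).symm.surjective.irreducibleSpace
      (PrimeSpectrum.homeomorphOfRingEquiv τ.toRingEquiv).symm.continuous
  let _ : CommRing (K ⊗[k] E) := inferInstance
  have hN : (nilradical (K ⊗[k] E)).IsPrime := PrimeSpectrum.irreducibleSpace_iff_isPrime_nilradical.1 hK
  have hmax : (nilradical (K ⊗[k] E)).IsMaximal := by
    have : Algebra.IsIntegral K (K ⊗[k] E) := Algebra.IsIntegral.of_finite K _
    have h0 : (nilradical (K ⊗[k] E)).comap (algebraMap K (K ⊗[k] E)) = ⊥ :=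
      (Ideal.eq_bot_or_top _).resolve_right
        ((Ideal.comap_ne_top _ hN.ne_top))
    refine Ideal.isMaximal_of_isIntegral_of_isMaximal_comap (R := K) (nilradical (K ⊗[k] E)) ?_
    rw [h0]
    exact Ideal.bot_isMaximal
  let f₁ : K ⊗[k] E →ₐ[k] Ω := Algebra.TensorProduct.productMap (IsScalarTower.toAlgHom k K Ω) φ₁
  let f₂ : K ⊗[k] E →ₐ[k] Ω := Algebra.TensorProduct.productMap (IsScalarTower.toAlgHom k K Ω) φ₂
  have hker : ∀ f : K ⊗[k] E →ₐ[k] Ω, RingHom.ker f = nilradical (K ⊗[k] E) := fun f =>
    (hmax.eq_of_le (RingHom.ker_isPrime f).ne_top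
      (@nilradical_le_prime (K ⊗[k] E) _ (RingHom.ker f.toRingHom) (RingHom.ker_isPrime f.toRingHom))).symm
  let z : K ⊗[k] E := α ⊗ₜ[k] 1 - 1 ⊗ₜ[k] e
  have hz : z ∈ RingHom.ker f₁ := by
    rw [RingHom.mem_ker, map_sub, sub_eq_zero]
    refine (Algebra.TensorProduct.productMap_apply_tmul _ _ _ _).trans
      (Eq.trans ?_ (Algebra.TensorProduct.productMap_apply_tmul _ _ _ _).symm)
    rw [map_one, map_one, mul_one, one_mul]
    rfl
  rw [hker f₁, ← hker f₂, RingHom.mem_ker, map_sub, sub_eq_zero] at hz
  have hz' := ((Algebra.TensorProduct.productMap_apply_tmul _ _ _ _).symm.trans hz).trans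
    (Algebra.TensorProduct.productMap_apply_tmul _ _ _ _)
  rw [map_one, map_one, mul_one, one_mul] at hz'
  apply hβne
  exact ((IntermediateField.algHomAdjoinIntegralEquiv_symm_apply_gen k hint _).symm.trans hz'.symm)

end GrothLib.GeomIrrAlg
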