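import Groth.Agent.Lib.BaseChange.Irred
import Groth.Agent.Lib.BaseChange.Levels

/-!
# Geometric irreducibility and connectedness of algebras over a field
-/

universe u

open CategoryTheory CategoryTheory.Limits AlgebraicGeometry TensorProduct

namespace GrothLib.GeomIrrAlg

variable (k R : Type u) [Field k] [CommRing R] [Algebra k R]

/-- The spectrum of an algebra, over the spectrum of the base. -/
@[reducible] noncomputable def specOver : (Spec (CommRingCat.of R)).Over (Spec (CommRingCat.of k)) :=
  ⟨Spec.map (CommRingCat.ofHom (algebraMap k R))⟩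

attribute [local instance] specOver

/-- The base change of an algebra as a base change of schemes. -/
noncomputable def homeo (K : Type u) [Field K] [Algebra k K] :
    PrimeSpectrum (K ⊗[k] R) ≃ₜ ↥(Curv2.bc k (Spec (CommRingCat.of R)) K) :=
  (PrimeSpectrum.homeomorphOfRingEquiv (Algebra.TensorProduct.comm k K R).toRingEquiv).trans
    (Scheme.homeoOfIso (pullbackSpecIso k R K).symm)

theorem irreducibleSpace_iff (K : Type u) [Field K] [Algebra k K] :
    IrreducibleSpace (PrimeSpectrum (K ⊗[k] R)) ↔
      IrreducibleSpace ↥(Curv2.bc k (Spec (CommRingCat.of R)) K) :=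
  ⟨fun _ => (homeo k R K).surjective.irreducibleSpace (homeo k R K).continuous,
    fun _ => (homeo k R K).symm.surjective.irreducibleSpace (homeo k R K).symm.continuous⟩

theorem connectedSpace_iff (K : Type u) [Field K] [Algebra k K] :
    ConnectedSpace (PrimeSpectrum (K ⊗[k] R)) ↔
      ConnectedSpace ↥(Curv2.bc k (Spec (CommRingCat.of R)) K) :=
  ⟨fun _ => (homeo k R K).surjective.connectedSpace (homeo k R K).continuous,
    fun _ => (homeo k R K).symm.surjective.connectedSpace (homeo k R K).symm.continuous⟩

theorem irreducibleSpace_of_sepClosed (L : Type u) [Field L] [Algebra k L] [IsSepClosed L]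
    (h : IrreducibleSpace (PrimeSpectrum (L ⊗[k] R))) (K : Type u) [Field K] [Algebra k K] :
    IrreducibleSpace (PrimeSpectrum (K ⊗[k] R)) := by
  rw [irreducibleSpace_iff] at h ⊢
  exact (BaseChange.geometricallyIrreducible_iff_forall k (Spec (CommRingCat.of R))).1
    (BaseChange.geometricallyIrreducible_of_irreducible_bc k (Spec (CommRingCat.of R)) L) K

theorem irreducibleSpace_sepClosure (h : ∀ (E : Type u) [Field E] [Algebra k E] [Module.Finite k E]
    [Algebra.IsSeparable k E], IrreducibleSpace (PrimeSpectrum (E ⊗[k] R))) :
    IrreducibleSpace (PrimeSpectrum (SeparableClosure k ⊗[k] R)) := by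
  rw [irreducibleSpace_iff]
  refine BaseChange.irreducibleSpace_of_finite k (Spec (CommRingCat.of R)) (SeparableClosure k) fun E hE => ?_
  rw [← irreducibleSpace_iff]
  have : Algebra.IsSeparable k E := Algebra.isSeparable_tower_bot_of_isSeparable k E (SeparableClosure k)
  exact h E

theorem connectedSpace_tensor [IsSepClosed k] (S : Type u) [CommRing S] [Algebra k S]
    [ConnectedSpace (PrimeSpectrum R)] [ConnectedSpace (PrimeSpectrum S)] :
    ConnectedSpace (PrimeSpectrum (R ⊗[k] S)) := by
  let f := Spec.map (CommRingCat.ofHom (algebraMap k S))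
  have hS : GeometricallyConnected f := by
    refine (BaseChange.geometricallyConnected_iff_forall k (Spec (CommRingCat.of S))).2 fun K _ _ => ?_
    have h : _root_.IsConnected (Set.univ : Set ↥(Spec (CommRingCat.of S))) :=
      connectedSpace_iff_univ.1 (inferInstanceAs (ConnectedSpace (PrimeSpectrum S)))
    have h2 := BaseChange.isConnected_preimage_of_isSepClosed k (Spec (CommRingCat.of S)) K h isClosed_univ
    rw [Set.preimage_univ] at h2
    exact connectedSpace_iff_univ.2 h2
  let g := Spec.map (CommRingCat.ofHom (algebraMap k R))
  have := hS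
  have : GeometricallyConnected (pullback.fst g f) := inferInstance
  have : ConnectedSpace ↥(Spec (CommRingCat.of R)) := inferInstanceAs (ConnectedSpace (PrimeSpectrum R))
  have hop : IsOpenMap (pullback.fst g f) := (pullback.fst g f).isOpenMap
  have := GeometricallyConnected.connectedSpace (pullback.fst g f) hop
  exact (pullbackSpecIso k R S).hom.homeomorph.surjective.connectedSpace
    (pullbackSpecIso k R S).hom.continuous

end GrothLib.GeomIrrAlg
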