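import Groth.Agent.Lib.GeomIrrAlg.Basic

/-!
# The fibres of a geometrically connected or irreducible algebra
-/

universe u

open CategoryTheory CategoryTheory.Limits AlgebraicGeometry TensorProduct

namespace GrothLib.GeomIrrAlg

variable {k R S : Type u} [Field k] [CommRing R] [CommRing S] [Algebra k R] [Algebra k S]

attribute [local instance] specOver

theorem geometricallyConnected_spec
    (hS : ∀ (k' : Type u) [Field k'] [Algebra k k'], ConnectedSpace (PrimeSpectrum (k' ⊗[k] S))) :
    GeometricallyConnected (Spec.map (CommRingCat.ofHom (algebraMap k S))) :=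
  (BaseChange.geometricallyConnected_iff_forall k (Spec (CommRingCat.of S))).2
    fun K _ _ => (connectedSpace_iff k S K).1 (hS K)

theorem geometricallyIrreducible_spec
    (hS : ∀ (k' : Type u) [Field k'] [Algebra k k'], IrreducibleSpace (PrimeSpectrum (k' ⊗[k] S))) :
    GeometricallyIrreducible (Spec.map (CommRingCat.ofHom (algebraMap k S))) :=
  (BaseChange.geometricallyIrreducible_iff_forall k (Spec (CommRingCat.of S))).2
    fun K _ _ => (irreducibleSpace_iff k S K).1 (hS K)

variable (k R S)

/-- The spectrum of a tensor product as a pullback. -/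
noncomputable abbrev P : Scheme.{u} :=
  pullback (Spec.map (CommRingCat.ofHom (algebraMap k R))) (Spec.map (CommRingCat.ofHom (algebraMap k S)))

/-- The spectrum of a tensor product as a pullback. -/
noncomputable def tensorHomeo : PrimeSpectrum (R ⊗[k] S) ≃ₜ ↥(P k R S) :=
  Scheme.homeoOfIso (pullbackSpecIso k R S).symm

theorem comap_eq (z : PrimeSpectrum (R ⊗[k] S)) :
    PrimeSpectrum.comap (algebraMap R (R ⊗[k] S)) z =
      pullback.fst (Spec.map (CommRingCat.ofHom (algebraMap k R))) (Spec.map (CommRingCat.ofHom (algebraMap k S)))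
        (tensorHomeo k R S z) := by
  change _ = ((pullbackSpecIso k R S).inv ≫ pullback.fst _ _) z
  rw [pullbackSpecIso_inv_fst]
  rfl

theorem preimage_eq (Z : Set (PrimeSpectrum R)) :
    PrimeSpectrum.comap (algebraMap R (R ⊗[k] S)) ⁻¹' Z =
      tensorHomeo k R S ⁻¹' (pullback.fst (Spec.map (CommRingCat.ofHom (algebraMap k R)))
        (Spec.map (CommRingCat.ofHom (algebraMap k S))) ⁻¹' Z) := by
  ext z
  exact iff_of_eq (congrArg (· ∈ Z) (comap_eq k R S z))

theorem isOpenMap_comap : IsOpenMap (PrimeSpectrum.comap (algebraMap R (R ⊗[k] S))) := by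
  rw [show PrimeSpectrum.comap (algebraMap R (R ⊗[k] S)) = _ ∘ tensorHomeo k R S from funext (comap_eq k R S)]
  exact (pullback.fst (Spec.map (CommRingCat.ofHom (algebraMap k R)))
    (Spec.map (CommRingCat.ofHom (algebraMap k S)))).isOpenMap.comp (tensorHomeo k R S).isOpenMap

variable {k R S}

theorem isConnected_fibre
    (hS : ∀ (k' : Type u) [Field k'] [Algebra k k'], ConnectedSpace (PrimeSpectrum (k' ⊗[k] S)))
    (p : PrimeSpectrum R) :
    _root_.IsConnected (PrimeSpectrum.comap (algebraMap R (R ⊗[k] S)) ⁻¹' {p}) := by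
  have := geometricallyConnected_spec hS
  rw [preimage_eq, ← Homeomorph.image_symm]
  exact ((pullback.fst (Spec.map (CommRingCat.ofHom (algebraMap k R)))
    (Spec.map (CommRingCat.ofHom (algebraMap k S)))).isConnected_preimage_singleton p).image _
      (tensorHomeo k R S).symm.continuous.continuousOn

theorem isIrreducible_preimage
    (hS : ∀ (k' : Type u) [Field k'] [Algebra k k'], IrreducibleSpace (PrimeSpectrum (k' ⊗[k] S)))
    {Z : Set (PrimeSpectrum R)} (hZ : IsIrreducible Z) :
    IsIrreducible (PrimeSpectrum.comap (algebraMap R (R ⊗[k] S)) ⁻¹' Z) := by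
  have := geometricallyIrreducible_spec hS
  rw [preimage_eq, ← Homeomorph.image_symm]
  exact ((pullback.fst (Spec.map (CommRingCat.ofHom (algebraMap k R)))
    (Spec.map (CommRingCat.ofHom (algebraMap k S)))).isIrreducible_preimage
      (pullback.fst (Spec.map (CommRingCat.ofHom (algebraMap k R)))
        (Spec.map (CommRingCat.ofHom (algebraMap k S)))).isOpenMap hZ).image _
      (tensorHomeo k R S).symm.continuous.continuousOn

/-- Over a separably closed field the tensor product of irreducible algebras is irreducible. -/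
theorem irreducibleSpace_tensor [IsSepClosed k] [IrreducibleSpace (PrimeSpectrum R)]
    [IrreducibleSpace (PrimeSpectrum S)] : IrreducibleSpace (PrimeSpectrum (R ⊗[k] S)) := by
  have hS : ∀ (k' : Type u) [Field k'] [Algebra k k'], IrreducibleSpace (PrimeSpectrum (k' ⊗[k] S)) := by
    intro k' _ _
    refine irreducibleSpace_of_sepClosed k S k ?_ k'
    exact (PrimeSpectrum.homeomorphOfRingEquiv (Algebra.TensorProduct.lid k S).toRingEquiv).symm.surjective.irreducibleSpace
      (PrimeSpectrum.homeomorphOfRingEquiv (Algebra.TensorProduct.lid k S).toRingEquiv).symm.continuous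
  have h := isIrreducible_preimage (R := R) hS (IrreducibleSpace.isIrreducible_univ (PrimeSpectrum R))
  rw [Set.preimage_univ] at h
  exact (irreducibleSpace_def _).2 h

end GrothLib.GeomIrrAlg
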