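import Groth.Agent.Lib.GeomIrrAlg.FieldExt
import Mathlib.RingTheory.Localization.Module
import Mathlib.RingTheory.TensorProduct.Free

/-!
# Geometric irreducibility and purely transcendental extensions
-/

universe u

open TensorProduct Polynomial

namespace GrothLib.GeomIrrAlg

variable {k K : Type u} [Field k] [Field K] [Algebra k K]
  {kt Kt : Type u} [Field kt] [Field Kt] [Algebra k[X] kt] [IsFractionRing k[X] kt] [Algebra K[X] Kt]
  [IsFractionRing K[X] Kt] [Algebra kt Kt]
  (hc : ∀ p : k[X], algebraMap kt Kt (algebraMap k[X] kt p) = algebraMap K[X] Kt (p.map (algebraMap k K)))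
  [Algebra k kt] [Algebra k Kt] [IsScalarTower k k[X] kt] [IsScalarTower k kt Kt]
  (j : K →ₐ[k] Kt) (hj : ∀ c, j c = algebraMap K[X] Kt (C c))

/-- The comparison map. -/
noncomputable def cmpHom : kt ⊗[k] K →ₐ[kt] Kt :=
  Algebra.TensorProduct.lift (Algebra.ofId kt Kt) j fun _ _ => mul_comm _ _

theorem cmpHom_tmul (x : kt) (c : K) : cmpHom j (x ⊗ₜ[k] c) = algebraMap kt Kt x * j c :=
  Algebra.TensorProduct.lift_tmul _ _ _ _ _

include hc hj in
theorem cmpHom_injective : Function.Injective (cmpHom (kt := kt) j) := by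
  let b := Module.Free.chooseBasis k K
  let bt := b.baseChange kt
  let _ : Algebra k[X] Kt := ((algebraMap kt Kt).comp (algebraMap k[X] kt)).toAlgebra
  have : IsScalarTower k[X] kt Kt := IsScalarTower.of_algebraMap_eq fun _ => rfl
  have hli : LinearIndependent k[X] (fun i => j (b i)) := by
    rw [linearIndependent_iff']
    intro s p hp i hi
    have h1 : algebraMap K[X] Kt (∑ i ∈ s, (p i).map (algebraMap k K) * C (b i)) = 0 := by
      rw [map_sum, ← hp]
      refine Finset.sum_congr rfl fun i _ => ?_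
      rw [map_mul, ← hc, ← hj]
      exact (Algebra.smul_def (p i) (j (b i))).symm
    rw [map_eq_zero_iff _ (IsFractionRing.injective K[X] Kt)] at h1
    ext n
    have h2 := congrArg (fun q : K[X] => q.coeff n) h1
    simp only [finsetSum_coeff, coeff_mul_C, coeff_map, coeff_zero, ← Algebra.smul_def] at h2
    rw [coeff_zero]
    exact linearIndependent_iff'.1 b.linearIndependent s (fun i => (p i).coeff n) h2 i hi
  have hlk : LinearIndependent kt (fun i => j (b i)) := (LinearIndependent.iff_fractionRing k[X] kt).1 hli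
  have h : (fun i => (cmpHom (kt := kt) j).toLinearMap (bt i)) = fun i => j (b i) := by
    funext i
    simp [bt, Module.Basis.baseChange_apply, cmpHom_tmul]
  have := LinearMap.ker_eq_bot.1 ((LinearMap.ker_eq_bot (f := (cmpHom (kt := kt) j).toLinearMap)).2 ?_)
  · exact this
  rw [injective_iff_map_eq_zero]
  intro x hx
  rw [← bt.linearCombination_repr x, Finsupp.apply_linearCombination, Function.comp_def, h] at hx
  rw [← bt.linearCombination_repr x, (linearIndependent_iff.1 hlk _ hx : bt.repr x = 0), map_zero]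

include hc hj in
theorem irreducibleSpace_ratFunc (L : Type u) [Field L] [Algebra kt L] [Algebra k L] [IsScalarTower k kt L]
    (h : IrreducibleSpace (PrimeSpectrum (L ⊗[k] K))) : IrreducibleSpace (PrimeSpectrum (L ⊗[kt] Kt)) := by
  let e := Algebra.TensorProduct.cancelBaseChange k kt kt L K
  let g : L ⊗[k] K →+* L ⊗[kt] Kt :=
    (Algebra.TensorProduct.map (AlgHom.id kt L) (cmpHom (kt := kt) j)).toRingHom.comp e.symm.toAlgHom.toRingHom
  have hg : ∀ l c, g (l ⊗ₜ[k] c) = l ⊗ₜ[kt] j c := fun l c => by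
    change Algebra.TensorProduct.map _ _ (e.symm (l ⊗ₜ[k] c)) = _
    simp [e, cmpHom_tmul]
  have hgi : Function.Injective g :=
    (Module.Flat.lTensor_preserves_injective_linearMap (M := L) (cmpHom (kt := kt) j).toLinearMap
      (cmpHom_injective hc j hj)).comp e.symm.injective
  have hpoly : ∀ (l : L) (a : K[X]), ∃ w, g w = l ⊗ₜ[kt] algebraMap K[X] Kt a := by
    intro l a
    induction a using Polynomial.induction_on' with
    | add p q hp hq =>
      obtain ⟨u, hu⟩ := hp
      obtain ⟨v, hv⟩ := hq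
      exact ⟨u + v, by rw [map_add, hu, hv, map_add, TensorProduct.tmul_add]⟩
    | monomial i c =>
      refine ⟨(algebraMap kt L (algebraMap k[X] kt (X ^ i)) * l) ⊗ₜ[k] c, ?_⟩
      rw [hg, ← Algebra.smul_def, TensorProduct.smul_tmul, Algebra.smul_def, hc, hj, ← map_mul,
        Polynomial.map_pow, Polynomial.map_X, X_pow_mul_C, C_mul_X_pow_eq_monomial]
  have hden : ∀ z : L ⊗[kt] Kt, ∃ d : K[X], d ≠ 0 ∧ ∃ w, g w = (1 ⊗ₜ[kt] algebraMap K[X] Kt d) * z := by
    intro z
    induction z with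
    | zero => exact ⟨1, one_ne_zero, 0, by simp⟩
    | tmul l y =>
      obtain ⟨a, d, hd, rfl⟩ := IsFractionRing.div_surjective (A := K[X]) y
      obtain ⟨w, hw⟩ := hpoly l a
      refine ⟨d, nonZeroDivisors.ne_zero hd, w, ?_⟩
      rw [hw, Algebra.TensorProduct.tmul_mul_tmul, one_mul, mul_div_cancel₀]
      exact (map_ne_zero_iff _ (IsFractionRing.injective K[X] Kt)).2 (nonZeroDivisors.ne_zero hd)
    | add z₁ z₂ h₁ h₂ =>
      obtain ⟨d₁, hd₁, w₁, hw₁⟩ := h₁
      obtain ⟨d₂, hd₂, w₂, hw₂⟩ := h₂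
      obtain ⟨u₁, hu₁⟩ := hpoly 1 d₂
      obtain ⟨u₂, hu₂⟩ := hpoly 1 d₁
      refine ⟨d₁ * d₂, mul_ne_zero hd₁ hd₂, u₁ * w₁ + u₂ * w₂, ?_⟩
      rw [map_add, map_mul, map_mul, hu₁, hu₂, hw₁, hw₂, map_mul,
        ← one_mul (1 : L), ← Algebra.TensorProduct.tmul_mul_tmul, one_mul]
      ring
  have hunit : ∀ d : K[X], d ≠ 0 → IsUnit ((1 : L) ⊗ₜ[kt] algebraMap K[X] Kt d) := fun d hd =>
    (IsUnit.mk0 _ ((map_ne_zero_iff _ (IsFractionRing.injective K[X] Kt)).2 hd)).map
      (Algebra.TensorProduct.includeRight : Kt →ₐ[kt] L ⊗[kt] Kt)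
  have hB := PrimeSpectrum.irreducibleSpace_iff_isPrime_nilradical.1 h
  rw [PrimeSpectrum.irreducibleSpace_iff_isPrime_nilradical]
  refine ⟨fun htop => one_ne_zero (α := L ⊗[kt] Kt) ?_, fun {x y} hxy => ?_⟩
  · obtain ⟨n, hn⟩ := mem_nilradical.1 (htop ▸ Submodule.mem_top : (1 : L ⊗[kt] Kt) ∈ nilradical _)
    simpa using hn
  · obtain ⟨d, hd, u, hu⟩ := hden x
    obtain ⟨d', hd', v, hv⟩ := hden y
    have huv : u * v ∈ nilradical (L ⊗[k] K) := by
      rw [mem_nilradical]
      refine (IsNilpotent.map_iff hgi).1 ?_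
      rw [map_mul, hu, hv, mul_mul_mul_comm, ← mem_nilradical]
      exact Ideal.mul_mem_left _ _ hxy
    rcases hB.mem_or_mem huv with h' | h'
    · refine Or.inl ((Ideal.unit_mul_mem_iff_mem _ (hunit d hd)).1 ?_)
      rw [← hu]
      exact mem_nilradical.2 ((mem_nilradical.1 h').map g)
    · refine Or.inr ((Ideal.unit_mul_mem_iff_mem _ (hunit d' hd')).1 ?_)
      rw [← hv]
      exact mem_nilradical.2 ((mem_nilradical.1 h').map g)

include hc hj in
theorem mem_range_of_ratFunc (h : ∀ α : Kt, IsSeparable kt α → α ∈ Set.range (algebraMap kt Kt))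
    (α : K) (hα : IsSeparable k α) : α ∈ Set.range (algebraMap k K) := by
  have h1 : IsSeparable k (j α) := by
    rwa [IsSeparable, minpoly.algHom_eq j j.toRingHom.injective]
  obtain ⟨x, hx⟩ := h _ (h1.tower_top kt)
  obtain ⟨p, q, hq, rfl⟩ := IsFractionRing.div_surjective (A := k[X]) x
  have hq0 : q ≠ 0 := nonZeroDivisors.ne_zero hq
  rw [map_div₀, hc, hc, hj, div_eq_iff ((map_ne_zero_iff _ (IsFractionRing.injective K[X] Kt)).2
    ((Polynomial.map_ne_zero_iff (algebraMap k K).injective).2 hq0)), ← map_mul] at hx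
  have h2 := congrArg (fun r : K[X] => r.coeff q.natDegree) (IsFractionRing.injective K[X] Kt hx)
  simp only [coeff_map, coeff_C_mul] at h2
  refine ⟨p.coeff q.natDegree / q.leadingCoeff, ?_⟩
  rw [map_div₀, h2, mul_div_assoc, leadingCoeff, div_self, mul_one]
  exact (map_ne_zero_iff _ (algebraMap k K).injective).2 (leadingCoeff_ne_zero.2 hq0)

end GrothLib.GeomIrrAlg
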